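import Mathlib
import Groth.Prelude.Def_FSch3
import Groth.Agent.Lib.Helper2.CompleteFinite

/-! helper7: for a local homomorphism of local rings with finite fibre, the completion of the
target at the extended maximal ideal agrees with its completion at its own maximal ideal, and
the map of completions is finite (complete Nakayama). -/

set_option linter.style.haveILetI false
set_option linter.unusedVariables false
set_option linter.unusedSectionVars false
set_option linter.overlappingInstances false

open TensorProduct IsLocalRing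

namespace Groth.Agent.Helper7.ComplFin

universe u

section General

variable {S T : Type u} [CommRing S] [CommRing T] (I : Ideal S) (K : Ideal T) (g : S →+* T)
  (h : I.map g ≤ K)

theorem evalₐ_complMap (n : ℕ) (x : AdicCompletion I S) :
    AdicCompletion.evalₐ K n (FSch.complMap I K g h x) =
      Ideal.quotientMap (K ^ n) g (FSch.pow_le_comap_pow_of_map_le I K g h n)
        (AdicCompletion.evalₐ I n x) := by
  unfold FSch.complMap
  generalize_proofs
  refine AdicCompletion.evalₐ_liftRingHom K _ ?_ n _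
  all_goals assumption

theorem evalₐ_complMap_mk (n : ℕ) (a : AdicCompletion.AdicCauchySequence I S) :
    AdicCompletion.evalₐ K n (FSch.complMap I K g h (AdicCompletion.mk I S a)) =
      Ideal.Quotient.mk (K ^ n) (g (a.val n)) := by
  rw [evalₐ_complMap, AdicCompletion.evalₐ_mk, Ideal.quotientMap_mk]

theorem complMap_of (x : S) :
    FSch.complMap I K g h (algebraMap S (AdicCompletion I S) x) =
      algebraMap T (AdicCompletion K T) (g x) := by
  refine AdicCompletion.ext_evalₐ fun n => ?_
  rw [evalₐ_complMap, AlgHom.commutes, AlgHom.commutes]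
  rfl

end General

section Bij

variable {S : Type u} [CommRing S] (I K : Ideal S)

theorem complMap_id_bijective (h' : I.map (RingHom.id S) ≤ K) (k : ℕ) (hk : K ^ k ≤ I) :
    Function.Bijective (FSch.complMap I K (RingHom.id S) h') := by
  have hk1 : K ^ (k + 1) ≤ I := (Ideal.pow_le_pow_right (Nat.le_succ k)).trans hk
  have hpow : ∀ n : ℕ, K ^ ((k + 1) * n) ≤ I ^ n := fun n => by
    rw [pow_mul]
    exact Ideal.pow_right_mono hk1 n
  have hle : ∀ n : ℕ, n ≤ (k + 1) * n := fun n => Nat.le_mul_of_pos_left n (Nat.succ_pos k)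
  constructor
  · rw [injective_iff_map_eq_zero]
    intro x hx
    obtain ⟨a, rfl⟩ := AdicCompletion.mk_surjective I S x
    refine AdicCompletion.ext_evalₐ fun n => ?_
    rw [map_zero, AdicCompletion.evalₐ_mk, Ideal.Quotient.eq_zero_iff_mem]
    have h1 := congr_arg (AdicCompletion.evalₐ K ((k + 1) * n)) hx
    rw [evalₐ_complMap_mk, map_zero, Ideal.Quotient.eq_zero_iff_mem, RingHom.id_apply] at h1
    have h2 := a.property (hle n)
    rw [SModEq.sub_mem, smul_eq_mul, Ideal.mul_top] at h2
    have h3 : a.val n = (a.val n - a.val ((k + 1) * n)) + a.val ((k + 1) * n) := by ring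
    rw [h3]
    exact (I ^ n).add_mem h2 (hpow n h1)
  · intro y
    obtain ⟨a, rfl⟩ := AdicCompletion.mk_surjective K S y
    have hb : AdicCompletion.IsAdicCauchy I S (fun n => a.val ((k + 1) * n)) := by
      intro m n hmn
      have h1 := a.property (Nat.mul_le_mul_left (k + 1) hmn)
      rw [SModEq.sub_mem, smul_eq_mul, Ideal.mul_top] at h1 ⊢
      exact hpow m h1
    refine ⟨AdicCompletion.mk I S ⟨_, hb⟩, AdicCompletion.ext_evalₐ fun n => ?_⟩
    rw [evalₐ_complMap_mk, AdicCompletion.evalₐ_mk, RingHom.id_apply, Ideal.Quotient.eq]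
    have h2 := a.property (hle n)
    rw [SModEq.sub_mem, smul_eq_mul, Ideal.mul_top] at h2
    have h3 : a.val ((k + 1) * n) - a.val n = -(a.val n - a.val ((k + 1) * n)) := by ring
    rw [h3]
    exact (K ^ n).neg_mem h2

end Bij

section Fib

variable (R S : Type u) [CommRing R] [CommRing S] [IsLocalRing R] [IsLocalRing S] [Algebra R S]
  [IsLocalHom (algebraMap R S)]

/-- The fibre ring is `S ⧸ 𝔪S`. -/
noncomputable def fiberEquiv :
    (S ⧸ (maximalIdeal R).map (algebraMap R S)) ≃ₐ[R] (maximalIdeal R).Fiber S :=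
  ((Algebra.TensorProduct.quotIdealMapEquivQuotTensor S (maximalIdeal R)).restrictScalars R).trans
    (Algebra.TensorProduct.congr
      (AlgEquiv.ofBijective (IsScalarTower.toAlgHom R (R ⧸ maximalIdeal R)
        (maximalIdeal R).ResidueField)
        (maximalIdeal R).bijective_algebraMap_quotient_residueField) AlgEquiv.refl)

theorem finite_quotient
    (hfib : Module.Finite (maximalIdeal R).ResidueField ((maximalIdeal R).Fiber S)) :
    Module.Finite R (S ⧸ (maximalIdeal R).map (algebraMap R S)) := by
  haveI := hfib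
  haveI : Module.Finite R ((maximalIdeal R).Fiber S) :=
    Module.Finite.trans (maximalIdeal R).ResidueField _
  exact Module.Finite.equiv (fiberEquiv R S).symm.toLinearEquiv

theorem exists_pow_le
    (hfib : Module.Finite (maximalIdeal R).ResidueField ((maximalIdeal R).Fiber S))
    (h : (maximalIdeal R).map (algebraMap R S) ≤ maximalIdeal S) :
    ∃ k : ℕ, maximalIdeal S ^ k ≤ (maximalIdeal R).map (algebraMap R S) := by
  haveI := hfib
  haveI : IsArtinianRing ((maximalIdeal R).Fiber S) :=
    IsArtinianRing.of_finite (maximalIdeal R).ResidueField _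
  haveI : IsArtinianRing (S ⧸ (maximalIdeal R).map (algebraMap R S)) :=
    (fiberEquiv R S).symm.toRingEquiv.isArtinianRing
  set J := (maximalIdeal R).map (algebraMap R S) with hJ
  have hne : J ≠ ⊤ := fun e => (maximalIdeal.isMaximal S).ne_top (top_le_iff.1 (e ▸ h))
  obtain ⟨k, hk⟩ := IsArtinianRing.isNilpotent_jacobson_bot (R := S ⧸ J)
  refine ⟨k, fun x hx => ?_⟩
  have h1 : maximalIdeal S = (Ideal.jacobson (⊥ : Ideal (S ⧸ J))).comap (Ideal.Quotient.mk J) := by
    rw [Ideal.comap_jacobson_of_surjective Ideal.Quotient.mk_surjective,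
      ← RingHom.ker_eq_comap_bot, Ideal.mk_ker, IsLocalRing.jacobson_eq_maximalIdeal J hne]
  have h2 : (maximalIdeal S).map (Ideal.Quotient.mk J) ≤ Ideal.jacobson (⊥ : Ideal (S ⧸ J)) := by
    rw [Ideal.map_le_iff_le_comap, ← h1]
  have h3 : Ideal.Quotient.mk J x ∈ Ideal.jacobson (⊥ : Ideal (S ⧸ J)) ^ k := by
    apply Ideal.pow_right_mono h2 k
    rw [← Ideal.map_pow]
    exact Ideal.mem_map_of_mem _ hx
  rw [hk] at h3
  exact Ideal.Quotient.eq_zero_iff_mem.1 h3

end Fib

/-- Complete Nakayama: a separated module `L` over an adically complete ring with `L ⧸ I L`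
finite is finite. -/
theorem finite_of_complete (A : Type u) [CommRing A] (I : Ideal A) [IsAdicComplete I A]
    (L : Type u) [AddCommGroup L] [Module A L] [IsHausdorff I L]
    (h : Module.Finite A (L ⧸ (I • ⊤ : Submodule A L))) : Module.Finite A L := by
  obtain ⟨r, s, hs⟩ := Module.Finite.exists_fin (R := A) (M := L ⧸ (I • ⊤ : Submodule A L))
  choose x hx using fun i => Submodule.Quotient.mk_surjective _ (s i)
  have hspan : Submodule.span A (Set.range x) = ⊤ := by
    apply Groth.Agent.Helper2.CompleteFinite.span_eq_top_of_sup_smul_eq_top I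
    rw [eq_top_iff]
    intro z _
    have h1 : Submodule.Quotient.mk z ∈ Submodule.span A (Set.range s) := by rw [hs]; trivial
    obtain ⟨c, hc⟩ := (Submodule.mem_span_range_iff_exists_fun A).1 h1
    have h2 : z - ∑ i, c i • x i ∈ (I • ⊤ : Submodule A L) := by
      rw [← Submodule.Quotient.mk_eq_zero, Submodule.Quotient.mk_sub, ← hc, sub_eq_zero]
      rw [← Submodule.mkQ_apply, map_sum]
      refine Finset.sum_congr rfl fun i _ => ?_
      rw [map_smul, Submodule.mkQ_apply, hx]
    have h3 : z = ∑ i, c i • x i + (z - ∑ i, c i • x i) := by abel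
    rw [h3]
    refine Submodule.add_mem_sup (Submodule.sum_mem _ fun i _ => ?_) h2
    exact Submodule.smul_mem _ _ (Submodule.subset_span ⟨i, rfl⟩)
  exact Module.finite_def.2 (Submodule.fg_iff_exists_fin_generating_family.2 ⟨r, x, hspan⟩)

section Fin

variable (R S : Type u) [CommRing R] [CommRing S] [IsLocalRing R] [IsLocalRing S] [Algebra R S]
  [IsLocalHom (algebraMap R S)]

theorem finite_complMap
    (hm : (maximalIdeal R).FG) (hn : (maximalIdeal S).FG)
    (hfib : Module.Finite (maximalIdeal R).ResidueField ((maximalIdeal R).Fiber S))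
    (h : (maximalIdeal R).map (algebraMap R S) ≤ maximalIdeal S) :
    (FSch.complMap (maximalIdeal R) (maximalIdeal S) (algebraMap R S) h).Finite := by
  set 𝔪 := maximalIdeal R with h𝔪
  set 𝔫 := maximalIdeal S with h𝔫
  set J := 𝔪.map (algebraMap R S) with hJ
  set ψ := FSch.complMap 𝔪 𝔫 (algebraMap R S) h with hψ
  obtain ⟨k, hk⟩ := exists_pow_le R S hfib h
  haveI hfin := finite_quotient R S hfib
  letI : Algebra (AdicCompletion 𝔪 R) (AdicCompletion 𝔫 S) := ψ.toAlgebra
  show Module.Finite (AdicCompletion 𝔪 R) (AdicCompletion 𝔫 S)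
  set A := AdicCompletion 𝔪 R with hA
  set L := AdicCompletion 𝔫 S with hL
  set Ih : Ideal A := 𝔪.map (algebraMap R A) with hIh
  haveI : IsAdicComplete Ih A := AdicCompletion.isAdicComplete_self 𝔪 hm
  have hsmul : ∀ (r : A) (z : L), r • z = ψ r * z := fun r z => rfl
  -- Hausdorff
  have hev : ∀ (j : ℕ) (r : A), r ∈ Ih ^ j → AdicCompletion.evalₐ 𝔪 j r = 0 := by
    intro j r hr
    rw [hIh, ← Ideal.map_pow] at hr
    have : (𝔪 ^ j).map (algebraMap R A) ≤ RingHom.ker (AdicCompletion.evalₐ 𝔪 j).toRingHom := by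
      rw [Ideal.map_le_iff_le_comap]
      intro a ha
      rw [Ideal.mem_comap, RingHom.mem_ker]
      show AdicCompletion.evalₐ 𝔪 j (algebraMap R A a) = 0
      rw [AlgHom.commutes]
      exact Ideal.Quotient.eq_zero_iff_mem.2 ha
    exact this hr
  haveI : IsHausdorff Ih L := by
    refine ⟨fun x hx => AdicCompletion.ext_evalₐ fun j => ?_⟩
    rw [map_zero]
    have hxj := hx j
    rw [SModEq.zero] at hxj
    refine Submodule.smul_induction_on hxj ?_ ?_
    · intro r hr z _
      rw [hsmul, map_mul, hψ, evalₐ_complMap, hev j r hr, map_zero, zero_mul]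
    · intro y z hy hz
      rw [map_add, hy, hz, add_zero]
  apply finite_of_complete A Ih L
  -- claim 1
  have c1 : ∀ a ∈ J, ∀ z : L, algebraMap S L a * z ∈ (Ih • ⊤ : Submodule A L) := by
    intro a ha
    rw [hJ, Ideal.map] at ha
    refine Submodule.span_induction ?_ ?_ ?_ ?_ ha
    · rintro _ ⟨r, hr, rfl⟩ z
      rw [← complMap_of 𝔪 𝔫 (algebraMap R S) h r, ← hψ, ← hsmul]
      exact Submodule.smul_mem_smul (Ideal.mem_map_of_mem _ hr) Submodule.mem_top
    · intro z
      rw [map_zero, zero_mul]
      exact Submodule.zero_mem _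
    · intro a b _ _ iha ihb z
      rw [map_add, add_mul]
      exact Submodule.add_mem _ (iha z) (ihb z)
    · intro t a _ iha z
      rw [smul_eq_mul, map_mul, mul_comm (algebraMap S L t), mul_assoc]
      exact iha _
  -- claim 2
  have c2 : ∀ y : L, AdicCompletion.evalₐ 𝔫 k y = 0 → y ∈ (Ih • ⊤ : Submodule A L) := by
    intro y hy
    have hy' : y ∈ LinearMap.ker (AdicCompletion.eval 𝔫 S k) := by
      rw [LinearMap.mem_ker, ← AdicCompletion.factor_evalₐ_eq_eval 𝔫 y (by simp), hy, map_zero]
    rw [← AdicCompletion.pow_smul_top_eq_ker_eval hn] at hy'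
    refine Submodule.smul_induction_on hy' ?_ ?_
    · intro a ha z _
      rw [show a • z = algebraMap S L a * z from Algebra.smul_def a z]
      exact c1 a (hk ha) z
    · intro y z hy hz
      exact Submodule.add_mem _ hy hz
  -- generators
  obtain ⟨r, g, hg⟩ := Module.Finite.exists_fin (R := R) (M := S ⧸ J)
  choose s hs using fun i => Ideal.Quotient.mk_surjective (g i)
  have c3 : ∀ t : S, ∃ c : Fin r → R, t - ∑ i, c i • s i ∈ J := by
    intro t
    have h1 : Ideal.Quotient.mk J t ∈ Submodule.span R (Set.range g) := by rw [hg]; trivial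
    obtain ⟨c, hc⟩ := (Submodule.mem_span_range_iff_exists_fun R).1 h1
    refine ⟨c, ?_⟩
    rw [← Ideal.Quotient.eq_zero_iff_mem, map_sub, ← hc, sub_eq_zero, map_sum]
    refine Finset.sum_congr rfl fun i _ => ?_
    rw [Algebra.smul_def, Algebra.smul_def, map_mul, hs]
    rfl
  have c4 : ∀ y : L, ∃ c : Fin r → A,
      y - ∑ i, c i • algebraMap S L (s i) ∈ (Ih • ⊤ : Submodule A L) := by
    intro y
    obtain ⟨t, ht⟩ := Ideal.Quotient.mk_surjective (AdicCompletion.evalₐ 𝔫 k y)
    obtain ⟨c, hc⟩ := c3 t
    refine ⟨fun i => algebraMap R A (c i), ?_⟩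
    have e1 : y - ∑ i, algebraMap R A (c i) • algebraMap S L (s i) =
        (y - algebraMap S L t) + algebraMap S L (t - ∑ i, c i • s i) * 1 := by
      rw [mul_one, map_sub, map_sum]
      have : ∀ i, algebraMap R A (c i) • algebraMap S L (s i) = algebraMap S L (c i • s i) := by
        intro i
        rw [hsmul, hψ, complMap_of, Algebra.smul_def, map_mul]
      simp only [this]
      ring
    rw [e1]
    refine Submodule.add_mem _ (c2 _ ?_) (c1 _ hc 1)
    rw [map_sub, AlgHom.commutes, ← ht, sub_eq_zero]
    rfl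
  refine Module.finite_def.2 (Submodule.fg_iff_exists_fin_generating_family.2
    ⟨r, fun i => Submodule.Quotient.mk (algebraMap S L (s i)), ?_⟩)
  rw [eq_top_iff]
  rintro q -
  obtain ⟨y, rfl⟩ := Submodule.Quotient.mk_surjective _ q
  obtain ⟨c, hc⟩ := c4 y
  have e2 : (Submodule.Quotient.mk y : L ⧸ (Ih • ⊤ : Submodule A L)) =
      ∑ i, c i • Submodule.Quotient.mk (algebraMap S L (s i)) := by
    rw [← sub_eq_zero]
    rw [← Submodule.Quotient.mk_eq_zero] at hc
    rw [← hc, Submodule.Quotient.mk_sub, ← Submodule.mkQ_apply, ← Submodule.mkQ_apply, map_sum]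
    simp only [map_smul]
    rfl
  rw [e2]
  exact Submodule.sum_mem _ fun i _ => Submodule.smul_mem _ _ (Submodule.subset_span ⟨i, rfl⟩)

end Fin

theorem main (R S : Type u) [CommRing R] [CommRing S]
    [IsLocalRing R] [IsLocalRing S] [Algebra R S] [IsLocalHom (algebraMap R S)]
    (hm : (IsLocalRing.maximalIdeal R).FG) (hn : (IsLocalRing.maximalIdeal S).FG)
    (hfib : Module.Finite (IsLocalRing.maximalIdeal R).ResidueField
      ((IsLocalRing.maximalIdeal R).Fiber S))
    (h : (IsLocalRing.maximalIdeal R).map (algebraMap R S) ≤ IsLocalRing.maximalIdeal S)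
    (h' : ((IsLocalRing.maximalIdeal R).map (algebraMap R S)).map (RingHom.id S) ≤
      IsLocalRing.maximalIdeal S) :
    Function.Bijective (FSch.complMap ((IsLocalRing.maximalIdeal R).map (algebraMap R S))
        (IsLocalRing.maximalIdeal S) (RingHom.id S) h') ∧
      (FSch.complMap (IsLocalRing.maximalIdeal R) (IsLocalRing.maximalIdeal S)
        (algebraMap R S) h).Finite := by
  obtain ⟨k, hk⟩ := exists_pow_le R S hfib h
  exact ⟨complMap_id_bijective _ _ h' k hk, finite_complMap R S hm hn hfib h⟩

end Groth.Agent.Helper7.ComplFin
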